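import Mathlib.AlgebraicGeometry.Morphisms.Finite
import Mathlib.AlgebraicGeometry.Morphisms.UnderlyingMap
import Mathlib.AlgebraicGeometry.PullbackCarrier
import Mathlib.AlgebraicGeometry.ResidueField
import Mathlib.AlgebraicGeometry.Limits
import Mathlib.FieldTheory.IsAlgClosed.AlgebraicClosure

/-!
Finite coproducts of finite morphisms are finite; fibres of geometrically transitive group actions.
-/

set_option autoImplicit false
universe u

open CategoryTheory CategoryTheory.Limits AlgebraicGeometry

namespace Groth.Agent.H9Gal.QfhBasics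

theorem isFinite_sigmaDesc {T : Scheme.{u}} : ∀ (ι : Type u) [Finite ι] (Y : ι → Scheme.{u}) (f : ∀ i, Y i ⟶ T),
    (∀ i, IsFinite (f i)) → IsFinite (Sigma.desc f) := by
  intro ι _
  induction ι using Finite.induction_empty_option with
  | of_equiv e ih =>
    intro Y f hf
    have h := ih (fun a => Y (e a)) (fun a => f (e a)) fun a => hf _
    have hw : Sigma.desc f = (Sigma.whiskerEquiv e (fun a => Iso.refl (Y (e a)))).inv ≫ Sigma.desc fun a => f (e a) := by
      rw [Iso.eq_inv_comp]
      refine Sigma.hom_ext _ _ fun a => ?_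
      simp [Sigma.whiskerEquiv]
    rw [hw, MorphismProperty.cancel_left_of_respectsIso (P := @IsFinite)]
    exact h
  | h_empty =>
    intro Y f _
    haveI : IsEmpty ↥(∐ Y) := (sigmaMk Y).symm.toEquiv.isEmpty
    haveI : IsClosedImmersion (Sigma.desc f) := inferInstance
    infer_instance
  | @h_option α _ ih =>
    intro Y f hf
    have h := ih (fun a => Y (some a)) (fun a => f (some a)) fun a => hf _
    have hn := hf none
    let w : (∐ Y) ⟶ (Y none) ⨿ ∐ (fun a => Y (some a)) :=
      Sigma.desc fun o => match o with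
        | none => coprod.inl
        | some a => Sigma.ι (fun a => Y (some a)) a ≫ coprod.inr
    let w' : (Y none) ⨿ ∐ (fun a => Y (some a)) ⟶ (∐ Y) :=
      coprod.desc (Sigma.ι Y none) (Sigma.desc fun a => Sigma.ι Y (some a))
    have w0 : Sigma.ι Y none ≫ w = coprod.inl := Sigma.ι_desc _ _
    have w1 : ∀ a, Sigma.ι Y (some a) ≫ w = Sigma.ι (fun a => Y (some a)) a ≫ coprod.inr := fun a =>
      Sigma.ι_desc _ _
    have v0 : coprod.inl ≫ w' = Sigma.ι Y none := coprod.inl_desc _ _
    have v1 : ∀ a, Sigma.ι (fun a => Y (some a)) a ≫ coprod.inr ≫ w' = Sigma.ι Y (some a) := fun a =>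
      (congrArg (Sigma.ι (fun a => Y (some a)) a ≫ ·) (coprod.inr_desc _ _)).trans (Sigma.ι_desc _ _)
    haveI : IsIso w := ⟨w', Sigma.hom_ext _ _ fun o => by
        cases o with
        | none => rw [reassoc_of% w0, v0, Category.comp_id]
        | some a => rw [reassoc_of% (w1 a), v1, Category.comp_id], by
      apply coprod.hom_ext
      · rw [reassoc_of% v0, w0, Category.comp_id]
      · refine Sigma.hom_ext _ _ fun a => ?_
        rw [reassoc_of% (v1 a), w1, Category.comp_id]⟩
    have hd : Sigma.desc f = w ≫ coprod.desc (f none) (Sigma.desc fun a => f (some a)) := by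
      refine Sigma.hom_ext _ _ fun o => ?_
      cases o with
      | none => rw [reassoc_of% w0]; exact (Sigma.ι_desc _ _).trans (coprod.inl_desc _ _).symm
      | some a =>
        rw [reassoc_of% (w1 a)]
        exact (Sigma.ι_desc _ _).trans ((congrArg (Sigma.ι (fun a => Y (some a)) a ≫ ·) (coprod.inr_desc (f none) (Sigma.desc fun a => f (some a)))).trans (Sigma.ι_desc (fun a => f (some a)) a)).symm
    rw [hd, MorphismProperty.cancel_left_of_respectsIso (P := @IsFinite)]
    infer_instance

variable {X S : Scheme.{u}} (q : X ⟶ S) {G : Type u} [Group G] (ρ : G →* Aut X)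

theorem exists_move
    (htrans : ∀ (Ω : Type u) [Field Ω] [IsAlgClosed Ω] (τ₁ τ₂ : Spec (CommRingCat.of Ω) ⟶ X),
      τ₁ ≫ q = τ₂ ≫ q → ∃ g : G, τ₁ ≫ (ρ g).hom = τ₂)
    (x y : X) (h : q x = q y) : ∃ g : G, (ρ g).hom x = y := by
  obtain ⟨z, hz1, hz2⟩ := Scheme.Pullback.exists_preimage_pullback (f := q) (g := q) x y h
  let Ω : Type u := AlgebraicClosure ((pullback q q).residueField z)
  let t : Spec (CommRingCat.of Ω) ⟶ pullback q q :=
    Spec.map (CommRingCat.ofHom (algebraMap ((pullback q q).residueField z) Ω)) ≫ (pullback q q).fromSpecResidueField z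
  obtain ⟨g, hg⟩ := htrans Ω (t ≫ pullback.fst q q) (t ≫ pullback.snd q q)
    (by simp only [t, Category.assoc, pullback.condition])
  have ht : ∀ p, t p = z := fun p => by
    rw [Scheme.Hom.comp_apply, Scheme.fromSpecResidueField_apply]
  have h1 := congrArg (fun φ : Spec (CommRingCat.of Ω) ⟶ X => φ (IsLocalRing.closedPoint Ω)) hg
  simp only [Scheme.Hom.comp_apply, ht, hz1, hz2] at h1
  exact ⟨g, h1⟩

end Groth.Agent.H9Gal.QfhBasics
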