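import Mathlib.LinearAlgebra.Pi
import Mathlib.Algebra.Module.Submodule.Range
import Mathlib.Data.Fintype.BigOperators
import Mathlib.SetTheory.Cardinal.Finite
import Mathlib.SetTheory.Cardinal.NatCard

/-!
Finite modules with isomorphic powers are isomorphic.
-/

set_option autoImplicit false

universe u v v' w

namespace Groth.Agent.H9Gal

variable {R : Type u} [Ring R] {M : Type v} {N : Type v'} [AddCommGroup M] [AddCommGroup N] [Module R M] [Module R N]

instance finite_linearMap {X : Type w} [AddCommGroup X] [Module R X] [Finite M] [Finite X] :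
    Finite (M →ₗ[R] X) :=
  Finite.of_injective (fun f => (f : M → X)) DFunLike.coe_injective

/-- A linear map is a surjection onto its range. -/
noncomputable def equivSigmaRange {X : Type w} [AddCommGroup X] [Module R X] :
    (M →ₗ[R] X) ≃ Σ Y : Submodule R X, {g : M →ₗ[R] Y // Function.Surjective g} :=
  Equiv.symm <| Equiv.ofBijective (fun p => p.1.subtype.comp p.2.1) ⟨by
    rintro ⟨Y, g, hg⟩ ⟨Y', g', hg'⟩ h
    obtain rfl : Y = Y' := by
      have h1 := congrArg LinearMap.range h
      simpa [LinearMap.range_comp, LinearMap.range_eq_top.2 hg, LinearMap.range_eq_top.2 hg'] using h1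
    refine Sigma.ext rfl (heq_of_eq (Subtype.ext (LinearMap.ext fun x => Subtype.ext ?_)))
    exact LinearMap.congr_fun h x,
    fun f => ⟨⟨LinearMap.range f, f.rangeRestrict, f.surjective_rangeRestrict⟩, LinearMap.ext fun _ => rfl⟩⟩

theorem card_surjective_top {T : Type*} [AddCommGroup T] [Module R T] {X : Type w} [AddCommGroup X] [Module R X] :
    Nat.card {g : T →ₗ[R] (⊤ : Submodule R X) // Function.Surjective g} =
      Nat.card {g : T →ₗ[R] X // Function.Surjective g} :=
  let e := (Submodule.topEquiv : (⊤ : Submodule R X) ≃ₗ[R] X)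
  Nat.card_congr
    { toFun := fun g => ⟨e.toLinearMap.comp g.1, e.surjective.comp g.2⟩
      invFun := fun g => ⟨e.symm.toLinearMap.comp g.1, e.symm.surjective.comp g.2⟩
      left_inv := fun g => Subtype.ext (LinearMap.ext fun x => e.symm_apply_apply _)
      right_inv := fun g => Subtype.ext (LinearMap.ext fun x => e.apply_symm_apply _) }

theorem card_surjective_eq [Finite M] [Finite N]
    (hHom : ∀ (X : Type v') [AddCommGroup X] [Module R X] [Finite X],
      Nat.card (M →ₗ[R] X) = Nat.card (N →ₗ[R] X)) :
    ∀ (n : ℕ) (X : Type v') [AddCommGroup X] [Module R X] [Finite X], Nat.card X = n →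
      Nat.card {g : M →ₗ[R] X // Function.Surjective g} = Nat.card {g : N →ₗ[R] X // Function.Surjective g} := by
  intro n
  induction n using Nat.strong_induction_on with
  | _ n ih =>
    intro X _ _ _ hX
    classical
    haveI : Fintype (Submodule R X) := @Fintype.ofFinite _ (Finite.of_injective (fun Y => (Y : Set X)) SetLike.coe_injective)
    have htot := hHom X
    rw [Nat.card_congr (equivSigmaRange (M := M) (X := X)), Nat.card_congr (equivSigmaRange (M := N) (X := X)),
      Nat.card_sigma, Nat.card_sigma] at htot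
    rw [← Finset.add_sum_erase _ _ (Finset.mem_univ (⊤ : Submodule R X)),
      ← Finset.add_sum_erase _ _ (Finset.mem_univ (⊤ : Submodule R X))] at htot
    have hrest : ∀ Y ∈ (Finset.univ : Finset (Submodule R X)).erase ⊤,
        Nat.card {g : M →ₗ[R] Y // Function.Surjective g} = Nat.card {g : N →ₗ[R] Y // Function.Surjective g} := by
      intro Y hY
      refine ih (Nat.card Y) (hX ▸ lt_of_le_of_ne (Nat.card_le_card_of_injective _ Y.injective_subtype) fun h => ?_) Y rfl
      refine Finset.ne_of_mem_erase hY (eq_top_iff.2 fun x _ => ?_)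
      obtain ⟨y, rfl⟩ := ((Nat.bijective_iff_injective_and_card Y.subtype).2 ⟨Y.injective_subtype, h⟩).2 x
      exact y.2
    rw [Finset.sum_congr rfl hrest, add_right_cancel_iff] at htot
    rw [← card_surjective_top (T := M), ← card_surjective_top (T := N)]
    exact htot

/-- Finite modules with isomorphic powers are isomorphic. -/
theorem nonempty_linearEquiv_of_pow [Finite M] [Finite N] {ι : Type*} [Fintype ι] [Nonempty ι]
    (e : (ι → M) ≃ₗ[R] (ι → N)) : Nonempty (M ≃ₗ[R] N) := by
  classical
  have hd : Nat.card ι ≠ 0 := Nat.card_ne_zero.2 ⟨inferInstance, inferInstance⟩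
  have hcard : Nat.card M = Nat.card N := by
    have h := Nat.card_congr e.toEquiv
    rw [Nat.card_fun, Nat.card_fun] at h
    exact Nat.pow_left_injective hd h
  have hHom : ∀ (X : Type v') [AddCommGroup X] [Module R X] [Finite X],
      Nat.card (M →ₗ[R] X) = Nat.card (N →ₗ[R] X) := fun X _ _ _ => by
    refine Nat.pow_left_injective hd ?_
    have h1 : ((ι → M) →ₗ[R] X) ≃ ((ι → N) →ₗ[R] X) :=
      { toFun := fun f => f.comp e.symm.toLinearMap
        invFun := fun f => f.comp e.toLinearMap
        left_inv := fun f => LinearMap.ext fun x => congrArg f (e.symm_apply_apply x)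
        right_inv := fun f => LinearMap.ext fun x => congrArg f (e.apply_symm_apply x) }
    have h2 := Nat.card_congr (((LinearMap.lsum R (fun _ : ι => M) ℕ).toEquiv.trans h1).trans
      (LinearMap.lsum R (fun _ : ι => N) ℕ (M := X)).symm.toEquiv)
    simpa [Nat.card_fun] using h2
  have hs := card_surjective_eq (R := R) hHom (Nat.card N) N rfl
  have hne : Nat.card {g : M →ₗ[R] N // Function.Surjective g} ≠ 0 := by
    rw [hs]
    exact Nat.card_ne_zero.2 ⟨⟨⟨LinearMap.id, Function.surjective_id⟩⟩, inferInstance⟩
  obtain ⟨⟨g, hg⟩⟩ := (Nat.card_ne_zero.1 hne).1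
  exact ⟨LinearEquiv.ofBijective g ((Nat.bijective_iff_surjective_and_card g).2 ⟨hg, hcard⟩)⟩

end Groth.Agent.H9Gal
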