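import Groth.Agent.S7723
import Groth.Agent.H9Gal.FiniteModules
import Groth.Prelude.Def_GSzCSA
import Mathlib.Algebra.MvPolynomial.Funext
import Mathlib.LinearAlgebra.Matrix.Determinant.Basic
import Mathlib.LinearAlgebra.FiniteDimensional.Lemmas
import Mathlib.RingTheory.TensorProduct.Free
import Mathlib.Algebra.Module.Opposite
import Mathlib.LinearAlgebra.Matrix.ToLin

/-!
Hilbert 90 for the units of a finite-dimensional algebra.
-/

set_option autoImplicit false
set_option linter.style.haveILetI false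

universe u v w

open scoped TensorProduct
attribute [local instance] CSAGal.tensorAction GpH1.unitsAction

namespace Groth.Agent.H9Gal

variable {k : Type u} [Field k] {K : Type v} [Field K] [Algebra k K] [FiniteDimensional k K] [IsGalois k K]
  {A : Type w} [Ring A] [Algebra k A] [FiniteDimensional k A]

theorem smul_one_tmul (σ : K ≃ₐ[k] K) (b : A) : σ • ((1 : K) ⊗ₜ[k] b) = 1 ⊗ₜ b := by
  rw [TensorProduct.smul_tmul', smul_one]

theorem smul_smul_semilinear (σ : K ≃ₐ[k] K) (c : K) (x : K ⊗[k] A) : σ • (c • x) = σ c • σ • x := by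
  rw [Algebra.smul_def, Algebra.smul_def, smul_mul', Algebra.TensorProduct.algebraMap_apply,
    Algebra.TensorProduct.algebraMap_apply, TensorProduct.smul_tmul']
  rfl

/-- The elements fixed by the action twisted by a cocycle. -/
noncomputable def twistedFixed (a : GpH1.OneCocycle (K ≃ₐ[k] K) (K ⊗[k] A)ˣ) : Submodule k (K ⊗[k] A) where
  carrier := {x | ∀ σ : K ≃ₐ[k] K, (a σ : K ⊗[k] A) * σ • x = x}
  add_mem' := fun {x y} hx hy σ => by rw [smul_add, mul_add, hx σ, hy σ]
  zero_mem' := fun σ => by rw [smul_zero, mul_zero]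
  smul_mem' := fun c x hx σ => by
    rw [← algebraMap_smul K c x, smul_smul_semilinear, σ.commutes, mul_smul_comm, hx σ]

theorem span_twistedFixed (a : GpH1.OneCocycle (K ≃ₐ[k] K) (K ⊗[k] A)ˣ) :
    Submodule.span K (twistedFixed a : Set (K ⊗[k] A)) = ⊤ ∧
      Module.finrank k (twistedFixed a) ≤ Module.finrank k A := by
  classical
  have hmul : ∀ σ τ : K ≃ₐ[k] K, ((a (σ * τ) : (K ⊗[k] A)ˣ) : K ⊗[k] A) =
      (a σ : K ⊗[k] A) * σ • (a τ : K ⊗[k] A) := fun σ τ => congrArg Units.val (a.2 σ τ)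
  have h1 : ((a 1 : (K ⊗[k] A)ˣ) : K ⊗[k] A) = 1 := by
    have h := hmul 1 1
    rw [mul_one, one_smul] at h
    have h' : a 1 * a 1 = a 1 := Units.ext (by rw [Units.val_mul]; exact h.symm)
    simpa using h'
  let act : DistribMulAction (K ≃ₐ[k] K) (K ⊗[k] A) :=
    { smul := fun σ x => (a σ : K ⊗[k] A) * σ • x
      one_smul := fun x => by
        show (a 1 : K ⊗[k] A) * (1 : K ≃ₐ[k] K) • x = x
        rw [h1, one_mul, one_smul]
      mul_smul := fun σ τ x => by
        show (a (σ * τ) : K ⊗[k] A) * (σ * τ) • x = (a σ : K ⊗[k] A) * σ • ((a τ : K ⊗[k] A) * τ • x)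
        rw [hmul, smul_mul', mul_smul, mul_assoc]
      smul_zero := fun σ => by
        show (a σ : K ⊗[k] A) * σ • (0 : K ⊗[k] A) = 0
        rw [smul_zero, mul_zero]
      smul_add := fun σ x y => by
        show (a σ : K ⊗[k] A) * σ • (x + y) = (a σ : K ⊗[k] A) * σ • x + (a σ : K ⊗[k] A) * σ • y
        rw [smul_add, mul_add] }
  obtain ⟨hspan, hli⟩ := @Groth.Agent.S7723.result k _ K _ _ _ _ (K ⊗[k] A) _ _ _ _ act (fun σ c x => by
    show (a σ : K ⊗[k] A) * σ • (c • x) = σ c • ((a σ : K ⊗[k] A) * σ • x)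
    rw [smul_smul_semilinear, mul_smul_comm])
  refine ⟨hspan, ?_⟩
  let b := Module.Free.chooseBasis k (twistedFixed a)
  have h2 := hli _ (fun i => (b i : K ⊗[k] A)) (fun i => (b i).2)
    (b.linearIndependent.map' (twistedFixed a).subtype (Submodule.ker_subtype _))
  have h3 := h2.fintype_card_le_finrank
  rwa [Module.finrank_baseChange, ← Module.finrank_eq_card_basis b] at h3

theorem isUnit_of_mul_surjective {w : K ⊗[k] A} (h : ∀ y, ∃ x, w * x = y) : IsUnit w := by
  obtain ⟨x, hx⟩ := h 1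
  have hinj : Function.Injective (LinearMap.mulLeft K w) := LinearMap.injective_iff_surjective.2 h
  refine ⟨⟨w, x, hx, hinj ?_⟩, rfl⟩
  show w * (x * w) = w * 1
  rw [← mul_assoc, hx, one_mul, mul_one]

theorem exists_isUnit_twistedFixed_of_infinite [Infinite k] (a : GpH1.OneCocycle (K ≃ₐ[k] K) (K ⊗[k] A)ˣ) :
    ∃ w ∈ twistedFixed a, IsUnit w := by
  classical
  have hS : ⊤ ≤ Submodule.span K (twistedFixed a : Set (K ⊗[k] A)) := (span_twistedFixed a).1.ge
  let c := Module.Basis.ofSpan hS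
  have hmem : ∀ i, c i ∈ twistedFixed a := fun i => Module.Basis.ofSpan_subset hS ⟨i, rfl⟩
  letI := FiniteDimensional.fintypeBasisIndex c
  let L : K ⊗[k] A →ₐ[K] Matrix _ _ K := Algebra.leftMulMatrix c
  let P : MvPolynomial _ K := (Matrix.of fun i j => ∑ l, MvPolynomial.C (L (c l) i j) * MvPolynomial.X l).det
  have hev : ∀ t : _ → K, MvPolynomial.eval t P = (L (∑ l, t l • c l)).det := fun t => by
    rw [RingHom.map_det]
    congr 1
    ext i j
    simp [RingHom.mapMatrix_apply, map_sum, Matrix.sum_apply, mul_comm]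
  have hP : P ≠ 0 := fun h => by
    have h1 := hev (c.repr 1)
    rw [h, map_zero, c.sum_repr, map_one, Matrix.det_one] at h1
    exact zero_ne_one h1
  obtain ⟨t, ht⟩ : ∃ t : _ → k, MvPolynomial.eval (fun l => algebraMap k K (t l)) P ≠ 0 := by
    by_contra! hall
    refine hP (MvPolynomial.funext_set (fun _ => Set.range (algebraMap k K))
      (fun _ => Set.infinite_range_of_injective (algebraMap k K).injective) fun x hx => ?_)
    choose t ht using fun l => hx l (Set.mem_univ l)
    rw [show x = fun l => algebraMap k K (t l) from funext fun l => (ht l).symm, hall t, map_zero]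
  rw [hev] at ht
  refine ⟨∑ l, algebraMap k K (t l) • c l, Submodule.sum_mem _ fun l _ => ?_, isUnit_of_mul_surjective fun y => ?_⟩
  · rw [algebraMap_smul]; exact Submodule.smul_mem _ _ (hmem l)
  · set w := ∑ l, algebraMap k K (t l) • c l
    have hu : IsUnit (L w) := (Matrix.isUnit_iff_isUnit_det _).2 ht.isUnit
    obtain ⟨M, hM⟩ := hu.exists_right_inv
    refine ⟨Matrix.toLin c c M y, ?_⟩
    have h1 : Matrix.toLin c c (L w) = LinearMap.mulLeft K w := by
      show Matrix.toLin c c (LinearMap.toMatrix c c _) = _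
      rw [Matrix.toLin_toMatrix]
      rfl
    have h2 := LinearMap.congr_fun (Matrix.toLin_mul c c c (L w) M) y
    rw [hM, Matrix.toLin_one, h1] at h2
    exact h2.symm

theorem exists_isUnit_twistedFixed_of_finite [Finite k] (a : GpH1.OneCocycle (K ≃ₐ[k] K) (K ⊗[k] A)ˣ) :
    ∃ w ∈ twistedFixed a, IsUnit w := by
  classical
  let ρ : Aᵐᵒᵖ →+* (K ⊗[k] A)ᵐᵒᵖ :=
    RingHom.op (Algebra.TensorProduct.includeRight : A →ₐ[k] K ⊗[k] A).toRingHom
  letI : Module Aᵐᵒᵖ (K ⊗[k] A) := Module.compHom (K ⊗[k] A) ρ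
  have hsmul : ∀ (r : Aᵐᵒᵖ) (x : K ⊗[k] A), r • x = x * (1 ⊗ₜ r.unop) := fun r x => rfl
  let W : Submodule Aᵐᵒᵖ (K ⊗[k] A) :=
    { carrier := twistedFixed a
      add_mem' := fun hx hy => add_mem hx hy
      zero_mem' := zero_mem _
      smul_mem' := fun r x hx σ => by
        rw [hsmul, smul_mul', smul_one_tmul, ← mul_assoc, hx σ] }
  let e := Module.finBasis k K
  haveI : Finite (K ⊗[k] A) := Module.finite_of_finite k
  haveI : Finite A := Module.finite_of_finite k
  haveI : Nonempty (Fin (Module.finrank k K)) := ⟨⟨0, Module.finrank_pos⟩⟩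
  let Φ : (Fin (Module.finrank k K) → W) →ₗ[Aᵐᵒᵖ] K ⊗[k] A :=
    { toFun := fun f => ∑ i, e i • (f i : K ⊗[k] A)
      map_add' := fun f g => by simp [smul_add, Finset.sum_add_distrib]
      map_smul' := fun r f => by
        simp only [Pi.smul_apply, RingHom.id_apply, hsmul, Submodule.coe_smul, Finset.sum_mul, smul_mul_assoc] }
  let Ψ : (Fin (Module.finrank k K) → A) →ₗ[Aᵐᵒᵖ] K ⊗[k] A :=
    { toFun := fun f => ∑ i, e i ⊗ₜ[k] f i
      map_add' := fun f g => by simp [TensorProduct.tmul_add, Finset.sum_add_distrib]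
      map_smul' := fun r f => by
        simp only [Pi.smul_apply, RingHom.id_apply, hsmul, Finset.sum_mul, Algebra.TensorProduct.tmul_mul_tmul, mul_one]
        rfl }
  have hVcard : Nat.card (K ⊗[k] A) = Nat.card A ^ Module.finrank k K := by
    rw [Module.natCard_eq_pow_finrank (K := k) (V := K ⊗[k] A), Module.natCard_eq_pow_finrank (K := k) (V := A),
      ← pow_mul, Module.finrank_tensorProduct, mul_comm]
  have hWcard : Nat.card W ≤ Nat.card A := by
    show Nat.card (twistedFixed a) ≤ _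
    rw [Module.natCard_eq_pow_finrank (K := k) (V := twistedFixed a), Module.natCard_eq_pow_finrank (K := k) (V := A)]
    exact Nat.pow_le_pow_right Nat.card_pos (span_twistedFixed a).2
  have hΨ : Function.Surjective Ψ := fun y => by
    induction y with
    | zero => exact ⟨0, map_zero Ψ⟩
    | tmul x b =>
      refine ⟨fun i => e.repr x i • b, ?_⟩
      show ∑ i, e i ⊗ₜ[k] (e.repr x i • b) = _
      conv_rhs => rw [← e.sum_repr x, TensorProduct.sum_tmul]
      exact Finset.sum_congr rfl fun i _ => (TensorProduct.smul_tmul _ _ _).symm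
    | add y z hy hz =>
      obtain ⟨f, rfl⟩ := hy; obtain ⟨g, rfl⟩ := hz
      exact ⟨f + g, map_add Ψ f g⟩
  have hΦ : Function.Surjective Φ := fun y => by
    have hy : y ∈ Submodule.span K (twistedFixed a : Set (K ⊗[k] A)) := (span_twistedFixed a).1 ▸ Submodule.mem_top
    obtain ⟨m, r, g, rfl⟩ := Submodule.mem_span_set'.1 hy
    refine ⟨fun i => ⟨∑ l, e.repr (r l) i • (g l : K ⊗[k] A), Submodule.sum_mem (twistedFixed a) fun l _ =>
      Submodule.smul_mem _ _ (g l).2⟩, ?_⟩
    show ∑ i, e i • ∑ l, e.repr (r l) i • (g l : K ⊗[k] A) = _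
    simp only [Finset.smul_sum]
    rw [Finset.sum_comm]
    refine Finset.sum_congr rfl fun l _ => ?_
    conv_rhs => rw [← e.sum_repr (r l), Finset.sum_smul]
    refine Finset.sum_congr rfl fun i _ => ?_
    rw [← algebraMap_smul K (e.repr (r l) i) (g l : K ⊗[k] A), smul_smul]
    congr 1
    rw [Algebra.smul_def, mul_comm]
  have hle : Nat.card (Fin (Module.finrank k K) → W) ≤ Nat.card (K ⊗[k] A) := by
    rw [Nat.card_fun, Nat.card_fin, hVcard]
    exact Nat.pow_le_pow_left hWcard _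
  have hcΨ : Nat.card (Fin (Module.finrank k K) → A) = Nat.card (K ⊗[k] A) := by
    rw [Nat.card_fun, Nat.card_fin, hVcard]
  have hΦb : Function.Bijective Φ := (Nat.bijective_iff_surjective_and_card Φ).2
    ⟨hΦ, le_antisymm hle (Nat.card_le_card_of_surjective Φ hΦ)⟩
  have hΨb : Function.Bijective Ψ := (Nat.bijective_iff_surjective_and_card Ψ).2 ⟨hΨ, hcΨ⟩
  obtain ⟨φ⟩ := nonempty_linearEquiv_of_pow
    ((LinearEquiv.ofBijective Φ hΦb).trans (LinearEquiv.ofBijective Ψ hΨb).symm)
  refine ⟨(φ.symm 1 : W), (φ.symm 1).2, isUnit_of_mul_surjective fun y => ?_⟩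
  have hy : y ∈ LinearMap.range (LinearMap.mulLeft K ((φ.symm 1 : W) : K ⊗[k] A)) := by
    refine (Submodule.span_le.2 ?_ : Submodule.span K (twistedFixed a : Set (K ⊗[k] A)) ≤ _)
      ((span_twistedFixed a).1 ▸ Submodule.mem_top)
    intro x hx
    refine ⟨1 ⊗ₜ φ ⟨x, hx⟩, ?_⟩
    have h1 : MulOpposite.op (φ ⟨x, hx⟩) • φ.symm 1 = (⟨x, hx⟩ : W) := by
      rw [← map_smul, op_smul_eq_mul, one_mul, LinearEquiv.symm_apply_apply]
    exact (hsmul _ _).symm.trans (congrArg Subtype.val h1)
  exact hy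

theorem exists_isUnit_twistedFixed (a : GpH1.OneCocycle (K ≃ₐ[k] K) (K ⊗[k] A)ˣ) :
    ∃ w ∈ twistedFixed a, IsUnit w := by
  rcases finite_or_infinite k with h | h
  · exact exists_isUnit_twistedFixed_of_finite a
  · exact exists_isUnit_twistedFixed_of_infinite a

end Groth.Agent.H9Gal
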